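import Mathlib

/-!
# Primitive elements of finite étale algebras generated by two elements
-/

set_option autoImplicit false

namespace Groth.Agent.Helper19.PrimElt

universe u

open Polynomial

section
variable (K L : Type u) [Field K] [CommRing L] [Algebra K L] [Module.Finite K L]

/-- separability passes to quotients -/
theorem isSeparable_quotient [Algebra.IsSeparable K L] (I : Ideal L) (y : L ⧸ I) :
    IsSeparable K y := by
  obtain ⟨x, rfl⟩ := Ideal.Quotient.mk_surjective y
  have hx : IsSeparable K x := Algebra.IsSeparable.isSeparable K x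
  have hdvd : minpoly K (Ideal.Quotient.mk I x) ∣ minpoly K x := by
    apply minpoly.dvd
    have h1 := Polynomial.aeval_algHom_apply (Ideal.Quotient.mkₐ K I) x (minpoly K x)
    rw [minpoly.aeval, map_zero] at h1
    exact h1
  exact Polynomial.Separable.of_dvd hx hdvd

theorem finrank_le_card_algHom [IsReduced L] [Algebra.IsSeparable K L]
    (Ω : Type u) [Field Ω] [IsAlgClosed Ω] [Algebra K Ω] :
    Module.finrank K L ≤ Nat.card (L →ₐ[K] Ω) := by
  classical
  haveI : IsArtinianRing L := IsArtinianRing.of_finite K L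
  haveI : Fintype (MaximalSpectrum L) := Fintype.ofFinite _
  have hfac : ∀ m : MaximalSpectrum L,
      Nat.card ((L ⧸ m.asIdeal) →ₐ[K] Ω) = Module.finrank K (L ⧸ m.asIdeal) := by
    intro m
    haveI := m.isMaximal
    letI : Field (L ⧸ m.asIdeal) := Ideal.Quotient.field m.asIdeal
    haveI : Algebra.IsSeparable K (L ⧸ m.asIdeal) :=
      ⟨fun y => isSeparable_quotient K L m.asIdeal y⟩
    exact AlgHom.natCard_of_splits K (L ⧸ m.asIdeal) Ω (fun _ => IsAlgClosed.splits _)
  have hsum : Module.finrank K L = ∑ m : MaximalSpectrum L, Module.finrank K (L ⧸ m.asIdeal) := by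
    rw [← Module.finrank_pi_fintype K]
    exact LinearEquiv.finrank_eq ((IsArtinianRing.equivPi L).restrictScalars K).toLinearEquiv
  have hker : ∀ (m : MaximalSpectrum L) (σ : (L ⧸ m.asIdeal) →ₐ[K] Ω) (x : L),
      (σ.comp (Ideal.Quotient.mkₐ K m.asIdeal)) x = 0 ↔ x ∈ m.asIdeal := by
    intro m σ x
    haveI := m.isMaximal
    letI : Field (L ⧸ m.asIdeal) := Ideal.Quotient.field m.asIdeal
    rw [AlgHom.comp_apply, map_eq_zero_iff σ (σ : (L ⧸ m.asIdeal) →+* Ω).injective,
      Ideal.Quotient.mkₐ_eq_mk, Ideal.Quotient.eq_zero_iff_mem]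
  rw [hsum]
  calc ∑ m : MaximalSpectrum L, Module.finrank K (L ⧸ m.asIdeal)
      = ∑ m : MaximalSpectrum L, Nat.card ((L ⧸ m.asIdeal) →ₐ[K] Ω) := by simp only [hfac]
    _ = Nat.card (Σ m : MaximalSpectrum L, ((L ⧸ m.asIdeal) →ₐ[K] Ω)) := (Nat.card_sigma).symm
    _ ≤ Nat.card (L →ₐ[K] Ω) := by
      refine Nat.card_le_card_of_injective
        (fun p => p.2.comp (Ideal.Quotient.mkₐ K p.1.asIdeal)) ?_
      rintro ⟨m, σ⟩ ⟨m', σ'⟩ h
      simp only at h
      have hmm : m = m' := by
        apply MaximalSpectrum.ext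
        ext x
        rw [← hker m σ x, ← hker m' σ' x, h]
      subst hmm
      have hσ : σ = σ' := by
        apply AlgHom.ext
        intro y
        obtain ⟨x, rfl⟩ := Ideal.Quotient.mk_surjective y
        exact AlgHom.congr_fun h x
      rw [hσ]

end

theorem main (K L : Type u) [Field K] [CommRing L]
    [Algebra K L] [Module.Finite K L] [IsReduced L] [Algebra.IsSeparable K L] (z t : L)
    (hgen : Algebra.adjoin K ({z, t} : Set L) = ⊤) (S : Finset K)
    (hS : Module.finrank K L ^ (4 * Module.finrank K L) ≤ S.card) :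
    ∃ c ∈ S, Algebra.adjoin K ({c • z + t} : Set L) = ⊤ := by
  classical
  rcases subsingleton_or_nontrivial L with hL | hL
  · have hd : Module.finrank K L = 0 := Module.finrank_zero_of_subsingleton
    rw [hd] at hS
    have hne : S.Nonempty := by
      rw [← Finset.card_pos]
      have : 1 ≤ S.card := by simpa using hS
      omega
    obtain ⟨c, hc⟩ := hne
    refine ⟨c, hc, eq_top_iff.2 (fun x _ => ?_)⟩
    rw [Subsingleton.elim x 0]
    exact Subalgebra.zero_mem _
  haveI : Finite (L →ₐ[K] AlgebraicClosure K) := Finite.algHom K L (AlgebraicClosure K)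
  letI : Fintype (L →ₐ[K] AlgebraicClosure K) := Fintype.ofFinite _
  obtain ⟨d, hd⟩ : ∃ d, Module.finrank K L = d := ⟨_, rfl⟩
  rw [hd] at hS
  have hcard_ge : d ≤ Fintype.card (L →ₐ[K] AlgebraicClosure K) := by
    rw [Fintype.card_eq_nat_card, ← hd]
    exact finrank_le_card_algHom K L (AlgebraicClosure K)
  have hcard_le : Fintype.card (L →ₐ[K] AlgebraicClosure K) ≤ d := by
    rw [Fintype.card_eq_nat_card, ← hd]
    exact card_algHom_le_finrank K L (AlgebraicClosure K)
  have hcard : Fintype.card (L →ₐ[K] AlgebraicClosure K) = d := le_antisymm hcard_le hcard_ge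
  have hdpos : 0 < d := by rw [← hd]; exact Module.finrank_pos
  have hgood : ∃ c ∈ S, ∀ φ ψ : L →ₐ[K] AlgebraicClosure K,
      φ (c • z + t) = ψ (c • z + t) → φ = ψ := by
    by_contra hcon
    push Not at hcon
    choose φ ψ h1 h2 using hcon
    have hinj : Set.InjOn (fun c : {c // c ∈ S} => (φ c.1 c.2, ψ c.1 c.2))
        (S.attach : Set {c // c ∈ S}) := by
      rintro ⟨c, hc⟩ _ ⟨c', hc'⟩ _ heq
      simp only [Prod.mk.injEq] at heq
      obtain ⟨e1, e2⟩ := heq
      by_contra hne
      have hne' : c ≠ c' := fun h => hne (Subtype.ext h)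
      apply h2 c hc
      have a1 := h1 c hc
      have a2 := h1 c' hc'
      rw [← e1, ← e2] at a2
      simp only [map_add, map_smul] at a1 a2
      simp only [Algebra.smul_def] at a1 a2
      have h3 : (algebraMap K (AlgebraicClosure K) c - algebraMap K (AlgebraicClosure K) c') *
          (φ c hc z - ψ c hc z) = 0 := by linear_combination a1 - a2
      have hz : φ c hc z = ψ c hc z := by
        rcases mul_eq_zero.1 h3 with h4 | h4
        · exact absurd ((algebraMap K (AlgebraicClosure K)).injective (sub_eq_zero.1 h4)) hne'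
        · exact sub_eq_zero.1 h4
      have ht : φ c hc t = ψ c hc t := by
        linear_combination a1 - (algebraMap K (AlgebraicClosure K) c) * hz
      refine AlgHom.ext_of_adjoin_eq_top hgen (fun x hx => ?_)
      rcases hx with rfl | hx
      · exact hz
      · rw [Set.mem_singleton_iff] at hx
        rw [hx]; exact ht
    have hle : S.card ≤ (Finset.univ : Finset (L →ₐ[K] AlgebraicClosure K)).offDiag.card := by
      rw [← Finset.card_attach]
      refine Finset.card_le_card_of_injOn (fun c : {c // c ∈ S} => (φ c.1 c.2, ψ c.1 c.2)) ?_ hinj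
      intro c _
      exact Finset.mem_coe.2 (Finset.mem_offDiag.2
        ⟨Finset.mem_univ _, Finset.mem_univ _, h2 c.1 c.2⟩)
    rw [Finset.offDiag_card, Finset.card_univ, hcard] at hle
    have hlt : d * d - d < d ^ (4 * d) := by
      calc d * d - d < d * d := Nat.sub_lt (Nat.mul_pos hdpos hdpos) hdpos
        _ = d ^ 2 := (sq d).symm
        _ ≤ d ^ (4 * d) := Nat.pow_le_pow_right hdpos (by omega)
    exact absurd (le_trans hS hle) (not_le.2 hlt)
  obtain ⟨c, hcS, hc⟩ := hgood
  refine ⟨c, hcS, ?_⟩
  obtain ⟨w, hw⟩ : ∃ w : L, w = c • z + t := ⟨_, rfl⟩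
  rw [← hw] at hc ⊢
  have hint : IsIntegral K w := Algebra.IsIntegral.isIntegral w
  have hroot : ∀ φ : L →ₐ[K] AlgebraicClosure K,
      φ w ∈ ((minpoly K w).map (algebraMap K (AlgebraicClosure K))).roots.toFinset := by
    intro φ
    rw [Multiset.mem_toFinset, Polynomial.mem_roots (Polynomial.map_ne_zero (minpoly.ne_zero hint)),
      Polynomial.IsRoot.def, Polynomial.eval_map, ← Polynomial.aeval_def,
      Polynomial.aeval_algHom_apply, minpoly.aeval, map_zero]
  have hle1 : Fintype.card (L →ₐ[K] AlgebraicClosure K) ≤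
      ((minpoly K w).map (algebraMap K (AlgebraicClosure K))).roots.toFinset.card := by
    rw [← Finset.card_univ]
    refine Finset.card_le_card_of_injOn (fun φ => φ w) ?_ ?_
    · intro φ _
      exact Finset.mem_coe.2 (hroot φ)
    · intro φ _ ψ _ h
      exact hc φ ψ h
  have hle2 : ((minpoly K w).map (algebraMap K (AlgebraicClosure K))).roots.toFinset.card ≤
      (minpoly K w).natDegree := by
    calc ((minpoly K w).map (algebraMap K (AlgebraicClosure K))).roots.toFinset.card
        ≤ Multiset.card ((minpoly K w).map (algebraMap K (AlgebraicClosure K))).roots :=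
          Multiset.toFinset_card_le _
      _ ≤ ((minpoly K w).map (algebraMap K (AlgebraicClosure K))).natDegree :=
          Polynomial.card_roots' _
      _ = (minpoly K w).natDegree := Polynomial.natDegree_map _
  have hfr : Module.finrank K (Algebra.adjoin K ({w} : Set L)) = (minpoly K w).natDegree := by
    rw [(Algebra.adjoin.powerBasis hint).finrank, Algebra.adjoin.powerBasis_dim]
  have hfin : Module.finrank K (Algebra.adjoin K ({w} : Set L)) = Module.finrank K L := by
    apply le_antisymm
    · rw [← Subalgebra.finrank_toSubmodule]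
      exact Submodule.finrank_le _
    · rw [hfr, hd, ← hcard]
      exact le_trans hle1 hle2
  rw [← Algebra.toSubmodule_eq_top]
  apply Submodule.eq_top_of_finrank_eq
  rw [Subalgebra.finrank_toSubmodule]
  exact hfin

end Groth.Agent.Helper19.PrimElt
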